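import Cfsg.Agent.Lib.Sporadic.FiTransfer.PLocal.Defs

/-!
The kernel computations for the p-local subgroups of Fi22.
-/

set_option autoImplicit false
set_option maxRecDepth 100000
set_option maxHeartbeats 0

namespace CfsgLib.Sporadic.FiTransfer.PLocal

open CfsgLib.Sporadic.CosetCert.FiData (table)

theorem reach_ok : reachK = true := by decide +kernel

theorem cert5 : certK x5 5 q5 pairs5 fixRel5 deep5 der5 = true := by decide +kernel
theorem cert7 : certK x7 7 q7 pairs7 fixRel7 deep7 der7 = true := by decide +kernel
theorem cert11 : certK x11 11 q11 pairs11 fixRel11 deep11 der11 = true := by decide +kernel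
theorem cert13 : certK x13 13 q13 pairs13 fixRel13 deep13 der13 = true := by decide +kernel

theorem fixed5 : fixedK x5 fix5 = true := by decide +kernel
theorem fixed7 : fixedK x7 fix7 = true := by decide +kernel
theorem fixed11 : fixedK x11 fix11 = true := by decide +kernel
theorem fixed13 : fixedK x13 fix13 = true := by decide +kernel

theorem pow5 : agreeK (pw x5 5) id = true := by decide +kernel
theorem pow7 : agreeK (pw x7 7) id = true := by decide +kernel
theorem pow11 : agreeK (pw x11 11) id = true := by decide +kernel
theorem pow13 : agreeK (pw x13 13) id = true := by decide +kernel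

theorem norm5 : agreeK (fun v => table.imgW n5 (table.imgW x5 v))
    (fun v => pw x5 2 (table.imgW n5 v)) = true := by decide +kernel
theorem norm7 : agreeK (fun v => table.imgW n7 (table.imgW x7 v))
    (fun v => pw x7 3 (table.imgW n7 v)) = true := by decide +kernel
theorem norm11 : agreeK (fun v => table.imgW n11 (table.imgW x11 v))
    (fun v => pw x11 4 (table.imgW n11 v)) = true := by decide +kernel

theorem npow5 : agreeK (pw n5 4) id = true := by decide +kernel
theorem npow7 : agreeK (pw n7 6) id = true := by decide +kernel
theorem npow11 : agreeK (pw n11 5) id = true := by decide +kernel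

theorem nfix5 : fix5.all (fun f => Nat.beq (table.imgW n5 f) f) = true := by decide +kernel
theorem nfix7 : fix7.all (fun f => Nat.beq (table.imgW n7 f) f) = true := by decide +kernel

theorem nlt : (n5 ++ n7 ++ n11).all (fun x => Nat.blt x 9) = true := by decide +kernel

theorem quad5 : quadK fix5 = 120 := by decide +kernel
theorem pathClos5 : closK pathDer5 path5 fix5 = true := by decide +kernel
theorem zpow5 : agreeK (fun v => taps path5 (taps path5 (taps path5 (taps path5 (taps path5 v))))) id = true := by
  decide +kernel
theorem conj5_ok : (List.range 5).all (fun a =>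
    agreeK (fun v => taps (conj5.getD a []) (table.imgW x5 v))
      (fun v => taps path5 (pw x5 a (taps (conj5.getD a []) v)))) = true := by decide +kernel

end CfsgLib.Sporadic.FiTransfer.PLocal
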