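import Mathlib

/-!
Generalities on normalizers of subgroups of prime order in finite groups.
-/

set_option autoImplicit false

namespace CfsgLib.Sporadic.FiTransfer.PLocal

open Subgroup
open scoped Pointwise

variable {G : Type*} [Group G] [Finite G] {p : ℕ} [hp : Fact p.Prime]

theorem factorization_one (hdvd : p ∣ Nat.card G) (hp2 : ¬ p ^ 2 ∣ Nat.card G) :
    (Nat.card G).factorization p = 1 := by
  have h0 : Nat.card G ≠ 0 := Nat.card_pos.ne'
  have h1 := (hp.out.pow_dvd_iff_le_factorization h0 (k := 1)).1 (by rwa [pow_one])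
  have h2 : ¬ 2 ≤ (Nat.card G).factorization p := fun h =>
    hp2 ((hp.out.pow_dvd_iff_le_factorization h0).2 h)
  omega

/-- A subgroup of order `p` is Sylow when the order is divisible by `p` only once. -/
noncomputable def sylowOf (hp2 : ¬ p ^ 2 ∣ Nat.card G) (X : Subgroup G) (hX : Nat.card X = p) :
    Sylow p G :=
  Sylow.ofCard X (by rw [factorization_one (hX ▸ X.card_subgroup_dvd_card) hp2, pow_one, hX])

theorem conj_of_card (hp2 : ¬ p ^ 2 ∣ Nat.card G) (X Y : Subgroup G) (hX : Nat.card X = p)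
    (hY : Nat.card Y = p) : ∃ g : G, X.map (MulAut.conj g).toMonoidHom = Y := by
  obtain ⟨g, hg⟩ := MulAction.exists_smul_eq G (sylowOf hp2 X hX) (sylowOf hp2 Y hY)
  exact ⟨g, congrArg Sylow.toSubgroup hg⟩

theorem normalizer_mod (hp2 : ¬ p ^ 2 ∣ Nat.card G) (X : Subgroup G) (hX : Nat.card X = p) :
    Nat.card (normalizer (X : Set G)) ∣ Nat.card G ∧
      Nat.card G / Nat.card (normalizer (X : Set G)) % p = 1 := by
  refine ⟨card_subgroup_dvd_card _, ?_⟩
  have h := card_sylow_modEq_one p G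
  rw [(sylowOf hp2 X hX).card_eq_index_normalizer] at h
  rw [← (normalizer (X : Set G)).card_mul_index, Nat.mul_div_cancel_left _ Nat.card_pos]
  exact Eq.trans h (Nat.one_mod_eq_one.2 hp.out.ne_one)

/-- The order of the normalizer of a subgroup of prime order over that of its centralizer. -/
theorem card_normalizer_mul (X : Subgroup G) (hX : Nat.card X = p) :
    ∃ e, e ∣ p - 1 ∧ Nat.card (normalizer (X : Set G)) = e * Nat.card (centralizer (X : Set G)) ∧
      ∀ n ∈ normalizer (X : Set G), ∀ m, (∀ j, 0 < j → j < m → n ^ j ∉ centralizer (X : Set G)) →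
        m ≤ e := by
  set φ := X.normalizerMonoidHom with hφ
  refine ⟨Nat.card φ.range, ?_, ?_, ?_⟩
  · have : IsCyclic X := isCyclic_of_prime_card hX
    have h := card_subgroup_dvd_card φ.range
    rwa [IsCyclic.card_mulAut, hX, Nat.totient_prime hp.out] at h
  · rw [← card_mul_index φ.ker, index_ker, normalizerMonoidHom_ker,
      Nat.card_congr (subgroupOfEquivOfLe (centralizer_le_normalizer _)).toEquiv, mul_comm]
  · intro n hn m hm
    let f : Fin m → φ.range := fun i => ⟨φ (⟨n, hn⟩ ^ (i : ℕ)), _, rfl⟩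
    have hf : Function.Injective f := by
      have key : ∀ i j : ℕ, i < j → j < m → φ (⟨n, hn⟩ ^ i) ≠ φ (⟨n, hn⟩ ^ j) := by
        intro i j hij hjm h
        refine hm (j - i) (by omega) (by omega) ?_
        have h2 : (⟨n, hn⟩ : normalizer (X : Set G)) ^ (j - i) ∈ φ.ker := by
          rw [MonoidHom.mem_ker]
          have h3 : φ (⟨n, hn⟩ ^ i) * φ (⟨n, hn⟩ ^ (j - i)) = φ (⟨n, hn⟩ ^ i) * 1 := by
            rw [← map_mul, ← pow_add, Nat.add_sub_cancel' hij.le, mul_one, h]
          exact mul_left_cancel h3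
        rw [hφ, normalizerMonoidHom_ker, mem_subgroupOf] at h2
        simpa using h2
      intro i j h
      rcases lt_trichotomy (i : ℕ) j with h' | h' | h'
      · exact absurd (congrArg Subtype.val h) (key _ _ h' j.2)
      · exact Fin.ext h'
      · exact absurd (congrArg Subtype.val h).symm (key _ _ h' i.2)
    simpa using Nat.card_le_card_of_injective f hf

omit [Finite G] hp in
theorem conj_pow_of_conj {x n : G} {a : ℕ} (h : n * x * n⁻¹ = x ^ a) :
    ∀ j : ℕ, n ^ j * x * (n ^ j)⁻¹ = x ^ (a ^ j) := by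
  intro j
  induction j with
  | zero => simp
  | succ j ih =>
    rw [pow_succ' n, show n * n ^ j * x * (n * n ^ j)⁻¹ = n * (n ^ j * x * (n ^ j)⁻¹) * n⁻¹ by group,
      ih, ← conj_pow, h, ← pow_mul, pow_succ']

omit [Finite G] in
theorem pow_not_mem {x n : G} {a m : ℕ} (hx : orderOf x = p) (h : n * x * n⁻¹ = x ^ a)
    (ha : ∀ j < m, 0 < j → a ^ j % p ≠ 1) (j : ℕ) (h0 : 0 < j) (hj : j < m) :
    n ^ j ∉ centralizer ((zpowers x : Subgroup G) : Set G) := by
  intro hc
  have h1 := conj_pow_of_conj h j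
  rw [← mem_centralizer_iff.1 hc x (mem_zpowers x), mul_inv_cancel_right] at h1
  have h2 : x ^ (a ^ j) = x ^ 1 := by rw [← h1, pow_one]
  rw [pow_eq_pow_iff_modEq, hx, Nat.ModEq, Nat.one_mod_eq_one.2 hp.out.ne_one] at h2
  exact ha j hj h0 h2

omit [Finite G] in
theorem mem_normalizer_of_conj {x n : G} {a : ℕ} (hx : orderOf x = p) (h : n * x * n⁻¹ = x ^ a) :
    n ∈ normalizer ((zpowers x : Subgroup G) : Set G) := by
  have hmap : (zpowers x).map (MulAut.conj n).toMonoidHom = zpowers x := by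
    have hf : Finite (zpowers x) :=
      Nat.finite_of_card_ne_zero (by rw [Nat.card_zpowers, hx]; exact hp.out.ne_zero)
    refine eq_of_le_of_card_ge ?_ (le_of_eq ?_)
    · rintro _ ⟨y, hy, rfl⟩
      obtain ⟨k, rfl⟩ := mem_zpowers_iff.1 hy
      exact mem_zpowers_iff.2 ⟨a * k, by
        rw [MulEquiv.coe_toMonoidHom, MulAut.conj_apply, ← conj_zpow, h, zpow_mul, zpow_natCast]⟩
    · rw [card_map_of_injective (MulAut.conj n).injective]
  rw [mem_normalizer_iff]
  intro y
  constructor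
  · intro hy
    rw [← hmap]
    exact ⟨y, hy, rfl⟩
  · intro hy
    rw [← hmap] at hy
    obtain ⟨z, hz, he⟩ := hy
    rwa [← (MulAut.conj n).injective he]

omit hp [Finite G] in
/-- Card of a product of two subgroups meeting trivially, one normalizing the other. -/
theorem card_sup_of_normalizes (H N : Subgroup G) (hle : H ≤ normalizer (N : Set G))
    (hd : H ⊓ N = ⊥) : Nat.card ↥(H ⊔ N) = Nat.card H * Nat.card N := by
  rw [← Nat.card_prod]
  refine (Nat.card_congr (Equiv.ofBijective (fun q : H × N => (⟨(q.1 : G) * q.2,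
    mul_mem (mem_sup_left q.1.2) (mem_sup_right q.2.2)⟩ : ↥(H ⊔ N))) ⟨?_, ?_⟩)).symm
  · rintro ⟨a, b⟩ ⟨a', b'⟩ h
    have h' : (a : G) * b = a' * b' := congrArg Subtype.val h
    have h1 : (a' : G)⁻¹ * a = b' * (b : G)⁻¹ := by
      rw [inv_mul_eq_iff_eq_mul, ← mul_assoc, ← h', mul_inv_cancel_right]
    have h2 : (a' : G)⁻¹ * a ∈ H ⊓ N :=
      Subgroup.mem_inf.2 ⟨mul_mem (inv_mem a'.2) a.2, h1 ▸ mul_mem b'.2 (inv_mem b.2)⟩
    rw [hd, mem_bot] at h2
    have ha : (a' : G) = a := inv_mul_eq_one.1 h2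
    have hb : (b : G) = b' := by rw [← ha] at h'; exact mul_left_cancel h'
    exact Prod.ext (Subtype.ext ha.symm) (Subtype.ext hb)
  · rintro ⟨g, hg⟩
    rw [← SetLike.mem_coe, coe_mul_of_left_le_normalizer_right H N hle] at hg
    obtain ⟨a, ha, b, hb, rfl⟩ := hg
    exact ⟨⟨⟨a, ha⟩, ⟨b, hb⟩⟩, rfl⟩

/-- The Frobenius group on a subgroup of prime order and an element normalizing it. -/
theorem frobenius {x n : G} {a m : ℕ} (hx : orderOf x = p) (h : n * x * n⁻¹ = x ^ a)
    (hn : n ^ m = 1) (hm : 0 < m) (ha : ∀ j < m, 0 < j → a ^ j % p ≠ 1) :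
    Nat.card ↥(zpowers n ⊔ zpowers x) = m * p ∧
      (zpowers n ⊔ zpowers x) ⊓ centralizer ((zpowers x : Subgroup G) : Set G) = zpowers x := by
  have hnm := pow_not_mem hx h ha
  have ho : orderOf n = m := by
    refine (orderOf_eq_iff hm).2 ⟨hn, fun j hj h0 e => hnm j h0 hj ?_⟩
    rw [e]
    exact one_mem _
  have hle : zpowers n ≤ normalizer ((zpowers x : Subgroup G) : Set G) :=
    zpowers_le.2 (mem_normalizer_of_conj hx h)
  have hcx : zpowers x ≤ centralizer ((zpowers x : Subgroup G) : Set G) := le_centralizer _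
  have hcn : ∀ y ∈ zpowers n, y ∈ centralizer ((zpowers x : Subgroup G) : Set G) → y = 1 := by
    intro y hy hc
    obtain ⟨j, rfl⟩ := mem_powers_iff_mem_zpowers.2 hy
    simp only at hc ⊢
    rw [← pow_mod_orderOf, ho] at hc ⊢
    by_contra h1
    refine hnm (j % m) (Nat.pos_of_ne_zero fun e => h1 ?_) (Nat.mod_lt _ hm) hc
    rw [e, pow_zero]
  constructor
  · rw [card_sup_of_normalizes _ _ hle ?_, Nat.card_zpowers, Nat.card_zpowers, ho, hx]
    exact le_bot_iff.1 fun y hy => mem_bot.2 (hcn y hy.1 (hcx hy.2))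
  · refine le_antisymm ?_ (le_inf le_sup_right hcx)
    intro y hy'
    obtain ⟨hy, hc⟩ := Subgroup.mem_inf.1 hy'
    rw [← SetLike.mem_coe, coe_mul_of_left_le_normalizer_right _ _ hle] at hy
    obtain ⟨u, hu, v, hv, rfl⟩ := hy
    simp only [hcn u hu (by simpa using mul_mem hc (inv_mem (hcx hv))), one_mul]
    exact hv

omit hp in
theorem sup_eq_of_card {N F K : Subgroup G} (hF : F ≤ N) (hK : K ≤ N)
    (hcomm : ∀ x ∈ F, ∀ y ∈ K, x * y = y * x) (hd : F ⊓ K = ⊥)
    (hc : Nat.card N ≤ Nat.card F * Nat.card K) : F ⊔ K = N := by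
  refine eq_of_le_of_card_ge (sup_le hF hK) ?_
  have hle : F ≤ normalizer (K : Set G) := fun x hx => centralizer_le_normalizer _
    (mem_centralizer_iff.2 fun y hy => (hcomm x hx y hy).symm)
  rwa [card_sup_of_normalizes F K hle hd]

omit [Finite G] hp in
theorem inf_eq_bot_of_center {F K : Subgroup G} (hcomm : ∀ x ∈ F, ∀ y ∈ K, x * y = y * x)
    (hK : center K = ⊥) : F ⊓ K = ⊥ := by
  refine le_bot_iff.1 fun y hy => mem_bot.2 ?_
  have : (⟨y, hy.2⟩ : K) ∈ center K :=
    mem_center_iff.2 fun k => Subtype.ext (hcomm y hy.1 k k.2).symm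
  rw [hK, mem_bot] at this
  exact congrArg Subtype.val this

end CfsgLib.Sporadic.FiTransfer.PLocal
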