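import Mathlib

/-!
The shapes of the normalizers of subgroups of prime order, and their behaviour under isomorphisms.
-/

set_option autoImplicit false

namespace CfsgLib.Sporadic.FiTransfer.PLocal

open Subgroup

variable {G H : Type*} [Group G] [Group H]

/-- The members of `D` centralizing `X` generate a subgroup. -/
def centD (D : Set G) (X : Subgroup G) : Subgroup G :=
  closure (D ∩ (centralizer ((X : Subgroup G) : Set G) : Set G))

/-- Any two subgroups of order `p` are conjugate. -/
def AllConj (G : Type*) [Group G] (p : ℕ) : Prop :=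
  ∀ X Y : Subgroup G, Nat.card X = p → Nat.card Y = p →
    ∃ g : G, X.map (MulAut.conj g).toMonoidHom = Y

/-- The normalizer is a Frobenius group times a symmetric group generated by members of `D`. -/
def ProductShape (f k : ℕ) (D : Set G) (X : Subgroup G) : Prop :=
  ∃ F : Subgroup G, Nat.card ↥F = f ∧ X ≤ F ∧
    F ⊓ centralizer ((X : Subgroup G) : Set G) = X ∧ F ⊓ centD D X = ⊥ ∧
    (∀ x ∈ F, ∀ y ∈ centD D X, x * y = y * x) ∧
    F ⊔ centD D X = normalizer ((X : Subgroup G) : Set G) ∧
    Nonempty (↥(centD D X) ≃* Equiv.Perm (Fin k))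

/-- The normalizer is a Frobenius group times the group of one member of `D`. -/
def SingleShape (f : ℕ) (D : Set G) (X : Subgroup G) : Prop :=
  ∃ (F : Subgroup G) (d : G), d ∈ D ∧ Nat.card ↥F = f ∧ X ≤ F ∧
    F ⊓ centralizer ((X : Subgroup G) : Set G) = X ∧ F ⊓ zpowers d = ⊥ ∧
    (∀ x ∈ F, ∀ y ∈ zpowers d, x * y = y * x) ∧
    F ⊔ zpowers d = normalizer ((X : Subgroup G) : Set G)

/-- The normalizer has order `f` and the subgroup is its own centralizer. -/
def SelfShape (f : ℕ) (X : Subgroup G) : Prop :=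
  Nat.card ↥(normalizer ((X : Subgroup G) : Set G)) = f ∧
    centralizer ((X : Subgroup G) : Set G) = X

theorem map_centralizer_equiv (e : G ≃* H) (s : Set G) :
    (centralizer s).map e.toMonoidHom = centralizer (e '' s) := by
  ext y
  rw [mem_map_equiv, mem_centralizer_iff, mem_centralizer_iff]
  constructor
  · rintro h _ ⟨x, hx, rfl⟩
    have := congrArg e (h x hx)
    simpa using this
  · intro h x hx
    apply e.injective
    simpa using h _ ⟨x, hx, rfl⟩

theorem map_centralizer_sub (e : G ≃* H) (X : Subgroup G) :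
    (centralizer ((X : Subgroup G) : Set G)).map e.toMonoidHom =
      centralizer ((X.map e.toMonoidHom : Subgroup H) : Set H) := by
  rw [map_centralizer_equiv]; rfl

theorem map_normalizer_sub (e : G ≃* H) (X : Subgroup G) :
    (normalizer ((X : Subgroup G) : Set G)).map e.toMonoidHom =
      normalizer ((X.map e.toMonoidHom : Subgroup H) : Set H) :=
  map_equiv_normalizer_eq X e

theorem map_centD (e : G ≃* H) {D : Set G} {D' : Set H} (he : e '' D = D') (X : Subgroup G) :
    (centD D X).map e.toMonoidHom = centD D' (X.map e.toMonoidHom) := by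
  rw [centD, centD, MonoidHom.map_closure, ← map_centralizer_sub e X, ← he, coe_map]
  exact congrArg Subgroup.closure (Set.image_inter e.injective)

theorem card_map_equiv' (e : G ≃* H) (X : Subgroup G) :
    Nat.card ↥(X.map e.toMonoidHom) = Nat.card X :=
  card_map_of_injective e.injective

theorem ProductShape.map {f k : ℕ} {D : Set G} {D' : Set H} {X : Subgroup G} (e : G ≃* H)
    (he : e '' D = D') (h : ProductShape f k D X) : ProductShape f k D' (X.map e.toMonoidHom) := by
  obtain ⟨F, h1, h2, h3, h4, h5, h6, ⟨φ⟩⟩ := h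
  refine ⟨F.map e.toMonoidHom, by rw [card_map_equiv', h1], map_mono h2, ?_, ?_, ?_, ?_, ?_⟩
  · rw [← map_centralizer_sub, ← map_inf _ _ _ e.injective, h3]
  · rw [← map_centD e he, ← map_inf _ _ _ e.injective, h4, Subgroup.map_bot]
  · rw [← map_centD e he]
    rintro _ ⟨x, hx, rfl⟩ _ ⟨y, hy, rfl⟩
    simp only [← map_mul, h5 x hx y hy]
  · rw [← map_centD e he, ← Subgroup.map_sup, h6, map_normalizer_sub]
  · rw [← map_centD e he]
    exact ⟨((centD D X).equivMapOfInjective _ e.injective).symm.trans φ⟩

theorem SingleShape.map {f : ℕ} {D : Set G} {D' : Set H} {X : Subgroup G} (e : G ≃* H)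
    (he : e '' D = D') (h : SingleShape f D X) : SingleShape f D' (X.map e.toMonoidHom) := by
  obtain ⟨F, d, hd, h1, h2, h3, h4, h5, h6⟩ := h
  refine ⟨F.map e.toMonoidHom, e d, he ▸ ⟨d, hd, rfl⟩, by rw [card_map_equiv', h1], map_mono h2,
    ?_, ?_, ?_, ?_⟩
  · rw [← map_centralizer_sub, ← map_inf _ _ _ e.injective, h3]
  · rw [show e d = e.toMonoidHom d from rfl, ← MonoidHom.map_zpowers,
      ← map_inf _ _ _ e.injective, h4, Subgroup.map_bot]
  · rw [show e d = e.toMonoidHom d from rfl, ← MonoidHom.map_zpowers]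
    rintro _ ⟨x, hx, rfl⟩ _ ⟨y, hy, rfl⟩
    simp only [← map_mul, h5 x hx y hy]
  · rw [show e d = e.toMonoidHom d from rfl, ← MonoidHom.map_zpowers, ← Subgroup.map_sup, h6,
      map_normalizer_sub]

theorem SelfShape.map {f : ℕ} {X : Subgroup G} (e : G ≃* H) (h : SelfShape f X) :
    SelfShape f (X.map e.toMonoidHom) := by
  obtain ⟨h1, h2⟩ := h
  exact ⟨by rw [← map_normalizer_sub, card_map_equiv', h1], by rw [← map_centralizer_sub, h2]⟩

theorem AllConj.transport {p : ℕ} (e : G ≃* H) (h : AllConj H p) : AllConj G p := by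
  intro X Y hX hY
  obtain ⟨g, hg⟩ := h (X.map e.toMonoidHom) (Y.map e.toMonoidHom)
    (by rw [card_map_equiv', hX]) (by rw [card_map_equiv', hY])
  refine ⟨e.symm g, map_injective (f := e.toMonoidHom) e.injective ?_⟩
  rw [map_map, ← hg, map_map]
  congr 1
  ext x
  simp

theorem map_symm_map (e : G ≃* H) (X : Subgroup G) :
    (X.map e.toMonoidHom).map e.symm.toMonoidHom = X := by
  rw [map_map]
  convert map_id X
  ext x
  simp

theorem image_symm_of_image (e : G ≃* H) {D : Set G} {D' : Set H} (he : e '' D = D') :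
    e.symm '' D' = D := by
  rw [← he, Set.image_image]
  simp

/-- A property of subgroups of order `p` that holds for one of them holds for all. -/
theorem forall_of_one {p : ℕ} {D : Set G} (hD : ∀ g : G, MulAut.conj g '' D = D) (hc : AllConj G p)
    (P : Subgroup G → Prop)
    (hP : ∀ (e : G ≃* G) (X : Subgroup G), e '' D = D → P X → P (X.map e.toMonoidHom))
    {X₀ : Subgroup G} (h₀ : Nat.card X₀ = p) (h : P X₀) :
    ∀ X : Subgroup G, Nat.card X = p → P X := by
  intro X hX
  obtain ⟨g, hg⟩ := hc X₀ X h₀ hX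
  exact hg ▸ hP _ _ (hD g) h

/-- A property of subgroups of order `p` is carried back by an isomorphism. -/
theorem forall_transport {p : ℕ} (e : G ≃* H) (P : Subgroup G → Prop) (P' : Subgroup H → Prop)
    (hP : ∀ X : Subgroup H, P' X → P (X.map e.symm.toMonoidHom))
    (h : ∀ X : Subgroup H, Nat.card X = p → P' X) :
    ∀ X : Subgroup G, Nat.card X = p → P X := by
  intro X hX
  have := hP _ (h (X.map e.toMonoidHom) (by rw [card_map_equiv', hX]))
  rwa [map_symm_map] at this

end CfsgLib.Sporadic.FiTransfer.PLocal
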