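import Cfsg.Agent.Lib.Sporadic.FiTransfer.PLocal.Tap
import Cfsg.Agent.Lib.Sporadic.FiTransfer.PLocal.General
import Cfsg.Agent.Lib.Sporadic.FiTransfer.PLocal.Shapes

/-!
Elements of prime order of Fi22 given by words, and their centralizers.
-/

set_option autoImplicit false
set_option maxRecDepth 100000

open Cfsg.Spor

namespace CfsgLib.Sporadic.FiTransfer.PLocal

open CfsgLib.Sporadic.CosetCert
open CfsgLib.Sporadic.CosetCert.FiP
open CfsgLib.Sporadic.CosetCert.FiP.OutFi22
open CfsgLib.Sporadic.CosetCert.FiData (table)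

attribute [local irreducible] PTab.img

theorem card_fi22 : Nat.card Fi22 = 64561751654400 := card_eq.1

instance instFiniteFi22 : Finite Fi22 := CosetCert.FiP.finite

theorem classTr_conj_image (g : Fi22) : MulAut.conj g '' classTr = classTr := by
  ext y
  rw [classTr_eq]
  constructor
  · rintro ⟨_, ⟨q, rfl⟩, rfl⟩
    exact ⟨hom g q, (conj_dp g q).symm⟩
  · rintro ⟨q, rfl⟩
    refine ⟨dp (hom g⁻¹ q), ⟨_, rfl⟩, ?_⟩
    rw [MulAut.conj_apply, conj_dp, ← Equiv.Perm.mul_apply, ← map_mul, mul_inv_cancel, map_one,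
      Equiv.Perm.one_apply]

/-- The permutations fixing the listed points. -/
noncomputable def fixer (fx : List ℕ) : Subgroup Fi22 where
  carrier := {c | ∀ f ∈ fx, hom c (pnt f) = pnt f}
  one_mem' f _ := by rw [map_one, Equiv.Perm.one_apply]
  mul_mem' ha hb f hf := by rw [map_mul, Equiv.Perm.mul_apply, hb f hf, ha f hf]
  inv_mem' ha f hf := by
    rw [map_inv, Equiv.Perm.inv_def, Equiv.symm_apply_eq, ha f hf]

/-- The word has order `p` and its fixed points are listed. -/
structure Word (W : List ℕ) (p : ℕ) (fx : List ℕ) : Prop where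
  lt : ∀ x ∈ W, x < 9
  pow : agreeK (pw W p) id = true
  fixed : fixedK W fx = true
  notMem : (1 : ℕ) ∉ fx

variable {W : List ℕ} {p : ℕ} {fx : List ℕ}

theorem Word.fix_iff (h : Word W p fx) (u : Fin table.N) :
    hom (el W) u = u ↔ (u : ℕ) ∈ fx := by
  have := of_allBelow h.fixed u u.2
  rw [beq_iff_eq] at this
  rw [Fin.ext_iff, el_img h.lt, ← Nat.beq_eq, this, List.contains_iff_mem]

theorem Word.orderOf_eq (h : Word W p fx) [Fact p.Prime] : orderOf (el W) = p := by
  refine orderOf_eq_prime ?_ fun e => h.notMem ?_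
  · exact eq_of_agree (img_pow h.lt p) img_one h.pow
  · rw [← pnt_val (show 1 < 3510 by norm_num)]
    exact (h.fix_iff _).1 (by rw [e, map_one, Equiv.Perm.one_apply])

theorem Word.card_zpowers (h : Word W p fx) [Fact p.Prime] :
    Nat.card (Subgroup.zpowers (el W)) = p := by
  rw [Nat.card_zpowers, h.orderOf_eq]

theorem mem_centralizer_zpowers {x g : Fi22} :
    g ∈ Subgroup.centralizer ((Subgroup.zpowers x : Subgroup Fi22) : Set Fi22) ↔ Commute g x := by
  rw [Subgroup.mem_centralizer_iff]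
  constructor
  · exact fun h => (h x (Subgroup.mem_zpowers x)).symm
  · intro h y hy
    obtain ⟨k, rfl⟩ := Subgroup.mem_zpowers_iff.1 hy
    exact ((h.zpow_right k).eq).symm

theorem Word.fx_lt (hlt : fx.all (fun f => Nat.blt f 3510) = true) {f : ℕ} (hf : f ∈ fx) :
    f < 3510 := Nat.le_of_ble_eq_true (List.all_eq_true.1 hlt f hf)

theorem Word.inter_centralizer (h : Word W p fx) :
    classTr ∩ (Subgroup.centralizer ((Subgroup.zpowers (el W) : Subgroup Fi22) : Set Fi22) : Set Fi22)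
      = dp '' {u | (u : ℕ) ∈ fx} := by
  ext y
  rw [classTr_eq]
  constructor
  · rintro ⟨⟨q, rfl⟩, hy⟩
    exact ⟨q, (h.fix_iff q).1 ((commute_dp_iff _ _).1 (mem_centralizer_zpowers.1 hy).symm), rfl⟩
  · rintro ⟨q, hq, rfl⟩
    exact ⟨⟨q, rfl⟩,
      mem_centralizer_zpowers.2 ((commute_dp_iff _ _).2 ((h.fix_iff q).2 hq)).symm⟩

theorem Word.mem_fx_of_commute (h : Word W p fx) (hlt : fx.all (fun f => Nat.blt f 3510) = true)
    {c : Fi22} (hc : Commute c (el W)) {f : ℕ} (hf : f ∈ fx) :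
    ((hom c (pnt f) : Fin table.N) : ℕ) ∈ fx := by
  rw [← h.fix_iff, ← Equiv.Perm.mul_apply, ← map_mul, ← hc.eq, map_mul, Equiv.Perm.mul_apply,
    (h.fix_iff (pnt f)).2 (by rw [pnt_val (Word.fx_lt hlt hf)]; exact hf)]

/-- The part of the centralizer fixing the points listed. -/
noncomputable def kerFix (W fx : List ℕ) : Subgroup Fi22 :=
  Subgroup.centralizer ((Subgroup.zpowers (el W) : Subgroup Fi22) : Set Fi22) ⊓ fixer fx

theorem Word.zpowers_le_kerFix (h : Word W p fx) (hlt : fx.all (fun f => Nat.blt f 3510) = true) :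
    Subgroup.zpowers (el W) ≤ kerFix W fx := by
  refine le_inf (fun y hy => mem_centralizer_zpowers.2 ?_) (Subgroup.zpowers_le.2 fun f hf => ?_)
  · obtain ⟨k, rfl⟩ := Subgroup.mem_zpowers_iff.1 hy
    exact (Commute.refl _).zpow_left k
  · exact (h.fix_iff _).2 (by rw [pnt_val (Word.fx_lt hlt hf)]; exact hf)

theorem card_kerFix_le {q₀ : ℕ} {pairs fr : List (ℕ × Bool)}
    {deep : List (ℕ × ℕ × ℕ × ℕ × Bool)} {der : List (ℕ × ℕ × ℕ)}
    (h : certK W p q₀ pairs fr deep der = true) (hfr : ∀ e ∈ fr, e.1 ∈ fx) :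
    Nat.card (kerFix W fx) ≤ countK (matchK W pairs fr deep) 3510 :=
  card_le_count h _ fun _ hc =>
    ⟨mem_centralizer_zpowers.1 hc.1, fun e he => hc.2 e.1 (hfr e he)⟩

/-- The normalizing word carries the word to a power. -/
theorem conj_word {n : List ℕ} {a : ℕ} (hW : ∀ x ∈ W, x < 9) (hn : ∀ x ∈ n, x < 9)
    (h : agreeK (fun v => table.imgW n (table.imgW W v))
      (fun v => pw W a (table.imgW n v)) = true) :
    el n * el W * (el n)⁻¹ = el W ^ a := by
  rw [eq_of_agree ((img_el hn).mul (img_el hW)) ((img_pow hW a).mul (img_el hn)) h]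
  group

end CfsgLib.Sporadic.FiTransfer.PLocal
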