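import Cfsg.Agent.Lib.Sporadic.Fi22Out.Defs
import Cfsg.Agent.Lib.Sporadic.CosetCertBelow
import Cfsg.Agent.Lib.Sporadic.FiTransfer.PLocal.Data

/-!
Boolean tests for the p-local subgroups of Fi22 in the action on 3510 points.

A point `q` is also a transposition; `tap q r` is the image of `r` under it, computed by moving `q`
to the base point along the tree given by `letters`.
-/

set_option autoImplicit false

namespace CfsgLib.Sporadic.FiTransfer.PLocal

open CfsgLib.Sporadic.CosetCert
open CfsgLib.Sporadic.CosetCert.FiData (table)
open CfsgLib.Sporadic.CosetCert.FiP.OutFi22 (genPts)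

/-- The letter leading a point towards the base point. -/
noncomputable def letter (q : ℕ) : ℕ := Nat.mod (Nat.shiftRight letters (Nat.mul 4 q)) 16

/-- The image of `r` under the transposition of `q`, with fuel. -/
noncomputable def tapF (fuel : ℕ) : ℕ → ℕ → ℕ :=
  Nat.rec (motive := fun _ => ℕ → ℕ → ℕ) (fun _ _ => 3510)
    (fun _ ih q r => Nat.rec (motive := fun _ => ℕ) (table.img 0 r)
      (fun q' _ => table.img (letter (Nat.succ q'))
        (ih (table.img (letter (Nat.succ q')) (Nat.succ q'))
          (table.img (letter (Nat.succ q')) r))) q) fuel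

/-- The tree leads from `q` to the base point. -/
noncomputable def reachF (fuel : ℕ) : ℕ → Bool :=
  Nat.rec (motive := fun _ => ℕ → Bool) (fun _ => false)
    (fun _ ih q => Nat.rec (motive := fun _ => Bool) true
      (fun q' _ => Nat.blt (letter (Nat.succ q')) 9 &&
        ih (table.img (letter (Nat.succ q')) (Nat.succ q'))) q) fuel

/-- The image of `r` under the transposition of `q`. -/
noncomputable def tap (q r : ℕ) : ℕ := tapF 36 q r

/-- Every point is led to the base point. -/
noncomputable def reachK : Bool := allBelow (reachF 36) 3510

/-- The transpositions of two points commute. -/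
noncomputable def rel (q r : ℕ) : Bool := Nat.beq (tap q r) r

/-- The image under a power of a word. -/
noncomputable def pw (W : List ℕ) (i : ℕ) : ℕ → ℕ :=
  Nat.rec (motive := fun _ => ℕ → ℕ) (fun r => r) (fun _ ih r => table.imgW W (ih r)) i

/-- The image under a product of transpositions. -/
noncomputable def taps (qs : List ℕ) (v : ℕ) : ℕ := qs.foldl (fun w q => tap q w) v

/-- A point has the invariants listed. -/
noncomputable def matchK (W : List ℕ) (pairs fr : List (ℕ × Bool))
    (deep : List (ℕ × ℕ × ℕ × ℕ × Bool)) (r : ℕ) : Bool :=
  pairs.all (fun e => rel r (pw W e.1 r) == e.2) && fr.all (fun e => rel r e.1 == e.2) &&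
    deep.all fun e => rel (pw W e.2.2.2.1 r)
      (tap (pw W e.1 r) (tap (pw W e.2.1 r) (pw W e.2.2.1 r))) == e.2.2.2.2

/-- The number of points below `n` with a property. -/
noncomputable def countK (P : ℕ → Bool) (n : ℕ) : ℕ :=
  Nat.rec (motive := fun _ => ℕ) 0 (fun i ih => bif P i then Nat.succ ih else ih) n

/-- The points of a list lie among those derived from known ones. -/
noncomputable def closK : List (ℕ × ℕ × ℕ) → List ℕ → List ℕ → Bool
  | [], known, goal => goal.all fun g => known.contains g
  | (a, b, c) :: t, known, goal =>
    known.contains a && known.contains b && Nat.beq (tap a b) c && closK t (c :: known) goal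

/-- The points below 3510 fixed by a word are listed. -/
noncomputable def fixedK (W fx : List ℕ) : Bool :=
  allBelow (fun r => Nat.beq (table.imgW W r) r == fx.contains r) 3510

/-- Two functions agree on the points of the generators. -/
noncomputable def agreeK (f g : ℕ → ℕ) : Bool := genPts.all fun v => Nat.beq (f v) (g v)

/-- The lists of base points: an orbit and fixed points. -/
noncomputable def baseK (W : List ℕ) (p q₀ : ℕ) (fr : List (ℕ × Bool)) : List ℕ :=
  (List.range p).map (fun i => pw W i q₀) ++ fr.map Prod.fst

/-- The certificate of a bound on a centralizer. -/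
noncomputable def certK (W : List ℕ) (p q₀ : ℕ) (pairs fr : List (ℕ × Bool))
    (deep : List (ℕ × ℕ × ℕ × ℕ × Bool)) (der : List (ℕ × ℕ × ℕ)) : Bool :=
  W.all (fun x => Nat.blt x 9) && Nat.blt q₀ 3510 && fr.all (fun e => Nat.blt e.1 3510) &&
    matchK W pairs fr deep q₀ && closK der (baseK W p q₀ fr) genPts

/-- The commuting pattern of four points. -/
noncomputable def patK (a b c e : ℕ) : Bool :=
  !rel a b && !rel b c && !rel c e && rel a c && rel a e && rel b e

/-- The number of ordered quadruples with the pattern of a chain. -/
noncomputable def quadK (fx : List ℕ) : ℕ :=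
  (fx.flatMap fun a => fx.flatMap fun b => fx.flatMap fun c =>
    fx.filterMap fun e => bif patK a b c e then some (a, b, c, e) else none).length

end CfsgLib.Sporadic.FiTransfer.PLocal
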