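import Cfsg.Agent.Lib.Sporadic.Fi22Out.Points
import Cfsg.Agent.Lib.Sporadic.FiTransfer.Model
import Cfsg.Agent.Lib.Sporadic.FiTransfer.PLocal.Checks

/-!
Soundness of the tests on the points of Fi22.
-/

set_option autoImplicit false
set_option maxRecDepth 100000

open Cfsg.Spor

namespace CfsgLib.Sporadic.FiTransfer.PLocal

open CfsgLib.Sporadic.CosetCert
open CfsgLib.Sporadic.CosetCert.FiP
open CfsgLib.Sporadic.CosetCert.FiP.OutFi22
open CfsgLib.Sporadic.CosetCert.FiData (table)

attribute [local irreducible] PTab.img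

/-- The point with a number. -/
noncomputable def pnt (q : ℕ) : Fin table.N := if h : q < table.N then ⟨q, h⟩ else pt

theorem tN : table.N = 3510 := rfl

theorem pnt_val {q : ℕ} (h : q < 3510) : (pnt q : ℕ) = q := by rw [pnt, dif_pos (show q < table.N from h)]

theorem pnt_coe (u : Fin table.N) : pnt u = u := Fin.ext (pnt_val u.2)

/-- The element has the function as its action. -/
def Img (g : Fi22) (f : ℕ → ℕ) : Prop := ∀ u : Fin table.N, ((hom g u : Fin table.N) : ℕ) = f u

theorem Img.mul {g h : Fi22} {f k : ℕ → ℕ} (hg : Img g f) (hh : Img h k) :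
    Img (g * h) (fun v => f (k v)) := fun u => by
  rw [map_mul, Equiv.Perm.mul_apply, hg, hh]

theorem img_one : Img 1 id := fun u => by rw [map_one, Equiv.Perm.one_apply]; rfl

theorem img_el {L : List ℕ} (hL : ∀ x ∈ L, x < 9) : Img (el L) (table.imgW L) := el_img hL

theorem img_pow {L : List ℕ} (hL : ∀ x ∈ L, x < 9) : ∀ i : ℕ, Img (el L ^ i) (pw L i) := by
  intro i
  induction i with
  | zero => rw [pow_zero]; exact img_one
  | succ i ih => rw [pow_succ']; exact (img_el hL).mul ih

theorem eq_of_agree {g h : Fi22} {f k : ℕ → ℕ} (hg : Img g f) (hh : Img h k)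
    (ha : agreeK f k = true) : g = h := by
  refine (inv_mul_eq_one.1 (eq_one_of_fix fun x hx => ?_)).symm
  rw [map_mul, Equiv.Perm.mul_apply, map_inv, Equiv.Perm.inv_def, Equiv.symm_apply_eq]
  refine Fin.ext ?_
  rw [hg, hh, gpt_val hx]
  refine Nat.eq_of_beq_eq_true (List.all_eq_true.1 ha _ ?_)
  have hlen : x < genPts.length := hx
  rw [List.getD_eq_getElem _ _ hlen]
  exact List.getElem_mem hlen

theorem tapF_spec : ∀ (fuel : ℕ) (q : Fin table.N), reachF fuel (q : ℕ) = true →
    Img (dp q) (tapF fuel q) := by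
  intro fuel
  induction fuel with
  | zero => intro q h; exact absurd h Bool.false_ne_true
  | succ n ih =>
    rintro ⟨q, hq⟩ h u
    cases q with
    | zero =>
      rw [show (⟨0, hq⟩ : Fin table.N) = pt from rfl, dp_pt]
      exact hom_acts.img_eq 0 (by decide) u
    | succ m =>
      have h' : (Nat.blt (letter (m + 1)) 9 &&
          reachF n (table.img (letter (m + 1)) (m + 1))) = true := h
      rw [Bool.and_eq_true] at h'
      show _ = table.img (letter (m + 1)) (tapF n (table.img (letter (m + 1)) (m + 1))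
        (table.img (letter (m + 1)) u))
      generalize letter (m + 1) = x at h'
      have hx : x < 9 := Nat.le_of_ble_eq_true h'.1
      set g := coding.gen x with hg
      have hi : Img g (table.img x) := fun v => hom_acts.img_eq x hx v
      have hq' := ih (hom g ⟨m + 1, hq⟩) (by rw [hi]; exact h'.2)
      have hgg : g * g = 1 := gen_sq hx
      have he : dp ⟨m + 1, hq⟩ = g * dp (hom g ⟨m + 1, hq⟩) * g := by
        rw [← conj_dp g ⟨m + 1, hq⟩, inv_eq_of_mul_eq_one_right hgg]
        calc dp ⟨m + 1, hq⟩ = (g * g) * dp ⟨m + 1, hq⟩ * (g * g) := by rw [hgg, one_mul, mul_one]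
          _ = _ := by group
      rw [he, ((hi.mul hq').mul hi) u, hi]

theorem img_dp (q : Fin table.N) : Img (dp q) (tap q) :=
  tapF_spec 36 q (of_allBelow reach_ok q q.2)

/-- The image of a point under the transposition of another. -/
noncomputable def tp (a b : Fin table.N) : Fin table.N := hom (dp a) b

theorem tp_val (a b : Fin table.N) : (tp a b : ℕ) = tap a b := img_dp a b

theorem tp_map (c : Fi22) (a b : Fin table.N) : hom c (tp a b) = tp (hom c a) (hom c b) := by
  have h : dp (hom c a) * c = c * dp a := by rw [← conj_dp c a]; group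
  show (hom c) (hom (dp a) b) = hom (dp (hom c a)) (hom c b)
  rw [← Equiv.Perm.mul_apply, ← map_mul, ← h, map_mul, Equiv.Perm.mul_apply]

theorem rel_iff (a b : Fin table.N) : rel a b = true ↔ tp a b = b := by
  rw [rel, Nat.beq_eq, ← tp_val, Fin.ext_iff]

theorem rel_map (c : Fi22) (a b : Fin table.N) :
    rel (hom c a : Fin table.N) (hom c b : Fin table.N) = rel a b := by
  rw [Bool.eq_iff_iff, rel_iff, rel_iff, ← tp_map, (hom c).injective.eq_iff]

/-- The product of the transpositions of a list of points. -/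
noncomputable def dpProd : List ℕ → Fi22
  | [] => 1
  | q :: t => dpProd t * dp (pnt q)

theorem img_dpProd : ∀ qs : List ℕ, (∀ q ∈ qs, q < 3510) → Img (dpProd qs) (taps qs) := by
  intro qs
  induction qs with
  | nil => intro _; exact img_one
  | cons q t ih =>
    intro h u
    rw [dpProd, ((ih fun a ha => h a (List.mem_cons_of_mem _ ha)).mul (img_dp (pnt q))) u,
      pnt_val (h q List.mem_cons_self)]
    rfl

theorem countK_eq (P : ℕ → Bool) : ∀ n, countK P n = ((Finset.range n).filter fun i => P i = true).card := by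
  intro n
  induction n with
  | zero => rfl
  | succ n ih =>
    show (bif P n then Nat.succ (countK P n) else countK P n) = _
    rw [Finset.range_add_one, Finset.filter_insert]
    cases hP : P n <;> simp [ih]

section Centralizer

variable {W : List ℕ}

theorem pw_map (hW : ∀ x ∈ W, x < 9) {c : Fi22} (hc : Commute c (el W)) (i : ℕ)
    (u : Fin table.N) : pw W i (hom c u : Fin table.N) = (hom c (hom (el W ^ i) u) : Fin table.N) := by
  rw [← img_pow hW i, ← Equiv.Perm.mul_apply, ← map_mul, ← (hc.pow_right i).eq, map_mul,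
    Equiv.Perm.mul_apply]

theorem pw_eq (hW : ∀ x ∈ W, x < 9) (i : ℕ) (u : Fin table.N) :
    pw W i u = (hom (el W ^ i) u : Fin table.N) := (img_pow hW i u).symm

theorem matchK_map (hW : ∀ x ∈ W, x < 9) {pairs fr : List (ℕ × Bool)}
    {deep : List (ℕ × ℕ × ℕ × ℕ × Bool)} {c : Fi22} (hc : Commute c (el W))
    (hfr : ∀ e ∈ fr, e.1 < 3510 ∧ hom c (pnt e.1) = pnt e.1) (u : Fin table.N) :
    matchK W pairs fr deep (hom c u : Fin table.N) = matchK W pairs fr deep u := by
  have key : ∀ a b, tap (hom c a : Fin table.N) (hom c b : Fin table.N) =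
      (hom c (tp a b) : Fin table.N) := fun a b => by rw [tp_map, tp_val]
  unfold matchK
  rw [Bool.eq_iff_iff]
  simp only [Bool.and_eq_true, List.all_eq_true, beq_iff_eq]
  simp only [pw_map hW hc, pw_eq hW, key, ← tp_val, rel_map]
  refine Iff.and (Iff.and Iff.rfl (forall₂_congr fun e he => ?_)) Iff.rfl
  conv_lhs => rw [show e.1 = ((hom c (pnt e.1) : Fin table.N) : ℕ) by
    rw [(hfr e he).2, pnt_val (hfr e he).1]]
  rw [rel_map, pnt_val (hfr e he).1]

theorem closK_fix {c : Fi22} : ∀ (der : List (ℕ × ℕ × ℕ)) (known goal : List ℕ),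
    closK der known goal = true → (∀ a ∈ known, a < 3510 ∧ hom c (pnt a) = pnt a) →
    ∀ g ∈ goal, hom c (pnt g) = pnt g := by
  intro der
  induction der with
  | nil =>
    intro known goal h hk g hg
    exact (hk g (List.contains_iff_mem.1 (List.all_eq_true.1 h g hg))).2
  | cons e t ih =>
    obtain ⟨a, b, d⟩ := e
    intro known goal h hk
    simp only [closK, Bool.and_eq_true, List.contains_iff_mem, Nat.beq_eq] at h
    obtain ⟨⟨⟨ha, hb⟩, hd⟩, ht⟩ := h
    refine ih (d :: known) goal ht ?_
    intro f hf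
    rcases List.mem_cons.1 hf with rfl | hf
    · obtain ⟨ha1, ha2⟩ := hk a ha
      obtain ⟨hb1, hb2⟩ := hk b hb
      have e1 : ((tp (pnt a) (pnt b) : Fin table.N) : ℕ) = f := by
        rw [tp_val, pnt_val ha1, pnt_val hb1, hd]
      refine ⟨e1 ▸ Fin.isLt _, ?_⟩
      rw [← e1, pnt_coe, tp_map, ha2, hb2]
    · exact hk f hf

/-- A subgroup centralizing a word and fixing the chosen fixed points has no more elements than
there are points with the invariants of the chosen one. -/
theorem card_le_count {p q₀ : ℕ} {pairs fr : List (ℕ × Bool)}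
    {deep : List (ℕ × ℕ × ℕ × ℕ × Bool)} {der : List (ℕ × ℕ × ℕ)}
    (h : certK W p q₀ pairs fr deep der = true) (M : Subgroup Fi22)
    (hM : ∀ c ∈ M, Commute c (el W) ∧ ∀ e ∈ fr, hom c (pnt e.1) = pnt e.1) :
    Nat.card M ≤ countK (matchK W pairs fr deep) 3510 := by
  simp only [certK, Bool.and_eq_true, List.all_eq_true, Nat.blt_eq] at h
  obtain ⟨⟨⟨⟨hW, hq⟩, hf⟩, hm⟩, hcl⟩ := h
  rw [countK_eq]
  let f : M → {i // i ∈ (Finset.range 3510).filter fun i => matchK W pairs fr deep i = true} :=
    fun c => ⟨((hom (c : Fi22) (pnt q₀) : Fin table.N) : ℕ), Finset.mem_filter.2 ⟨Finset.mem_range.2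
      (Fin.isLt _), by
        rw [matchK_map hW (hM c c.2).1 (fun e he => ⟨hf e he, (hM c c.2).2 e he⟩), pnt_val hq]
        exact hm⟩⟩
  have hfi : Function.Injective f := by
    intro c d e
    have e' : hom (c : Fi22) (pnt q₀) = hom (d : Fi22) (pnt q₀) :=
      Fin.ext (congrArg Subtype.val e)
    have hk : (d : Fi22)⁻¹ * c ∈ M := mul_mem (inv_mem d.2) c.2
    refine Subtype.ext (inv_mul_eq_one.1 (eq_one_of_fix (g := (d : Fi22)⁻¹ * c) fun x hx => ?_)).symm
    have hb : ∀ a ∈ baseK W p q₀ fr, a < 3510 ∧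
        hom ((d : Fi22)⁻¹ * c) (pnt a) = pnt a := by
      intro a ha
      simp only [baseK, List.mem_append, List.mem_map, List.mem_range] at ha
      rcases ha with ⟨i, -, rfl⟩ | ⟨e, he, rfl⟩
      · rw [show q₀ = ((pnt q₀ : Fin table.N) : ℕ) from (pnt_val hq).symm, pw_eq hW i]
        refine ⟨Fin.isLt _, ?_⟩
        rw [pnt_coe, ← Equiv.Perm.mul_apply, ← map_mul, ((hM _ hk).1.pow_right i).eq, map_mul,
          Equiv.Perm.mul_apply, map_mul, Equiv.Perm.mul_apply, e', hom_inv_apply]
      · exact ⟨hf e he, (hM _ hk).2 e he⟩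
    have hg := closK_fix der _ _ hcl hb (genPts.getD x 3510) (by
      have hlen : x < genPts.length := hx
      rw [List.getD_eq_getElem _ _ hlen]
      exact List.getElem_mem hlen)
    rwa [← gpt_val hx, pnt_coe] at hg
  refine (Nat.card_le_card_of_injective f hfi).trans (le_of_eq ?_)
  rw [Nat.card_eq_fintype_card, Fintype.card_coe]

end Centralizer

theorem classTr_eq : classTr = Set.range dp := by
  have h : tr = coding.gen 0 := (coding.gen_code Fi22.Gen.a).symm
  ext y
  show IsConj tr y ↔ _
  rw [isConj_iff, h, Set.mem_range]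
  constructor
  · rintro ⟨g, rfl⟩
    exact ⟨hom g pt, dp_eq rfl⟩
  · rintro ⟨q, rfl⟩
    obtain ⟨g, hg⟩ := transitive q
    exact ⟨g, (dp_eq hg).symm⟩

theorem commute_dp_iff (g : Fi22) (q : Fin table.N) : Commute g (dp q) ↔ hom g q = q := by
  refine ⟨fun h => dp_injective ?_, comm_of_fix⟩
  rw [← conj_dp, h.eq, mul_inv_cancel_right]

end CfsgLib.Sporadic.FiTransfer.PLocal
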